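import Groth.Agent.H9Misc.DRingRelPC2
import Groth.Agent.H9Misc.DRingTorDescent
import Groth.Agent.H9Misc.DRingComplTensor
import Groth.Agent.H9Misc.DRingLBase

/-!
# Descent of relative pseudo-coherence along finite projective faithfully flat algebras
-/

set_option linter.style.haveILetI false
set_option backward.isDefEq.respectTransparency false
set_option backward.isDefEq.respectTransparency.types false

universe u

open CategoryTheory CategoryTheory.Limits MonoidalCategory Pretriangulated

attribute [local instance] HasDerivedCategory.standard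

namespace Groth.Agent.RelPCFppf

open Groth.Agent.KFlatLib Groth.Agent.H9Misc Groth.Agent.H9Misc.DRingLTensor

/-- A retract of a pseudo-coherent object is pseudo-coherent. -/
lemma pc_of_retract {Q : Type u} [CommRing Q] {K G : Dual.D Q} (h : Retract K G) {m : ℤ}
    (hG : DRing.IsPseudoCoherent Q m G) : DRing.IsPseudoCoherent Q m K := by
  obtain ⟨X, g, d, hT⟩ := distinguished_cocone_triangle h.i
  haveI : Mono h.i := SplitMono.mono ⟨h.r, h.retract⟩
  obtain ⟨e, -, -⟩ := exists_iso_binaryBiproduct_of_distTriang _ hT (Triangle.mor₃_eq_zero_of_mono₁ _ hT ‹_›)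
  exact (DRingPC.summand (DRingPC.of_iso (show G ≅ K ⊞ X from e) hG)).1

variable {R A C : Type u} [CommRing R] [CommRing A] [CommRing C] [Algebra R A] [Algebra A C] [Algebra R C]
  [IsScalarTower R A C]

/-- A finite projective faithfully flat algebra retracts onto the base. -/
lemma exists_retraction [Module.Finite A C] [Module.Projective A C] [Module.FaithfullyFlat A C] :
    ∃ f : C →ₗ[A] A, f 1 = 1 := by
  let I : Ideal A := LinearMap.range (LinearMap.applyₗ (R := A) (M₂ := A) (1 : C))
  suffices h : I = ⊤ by
    obtain ⟨f, hf⟩ : (1 : A) ∈ I := h ▸ Submodule.mem_top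
    exact ⟨f, hf⟩
  by_contra hI
  obtain ⟨m, hm, hIm⟩ := Ideal.exists_le_maximal I hI
  obtain ⟨n, π, hπ⟩ := Module.Finite.exists_fin' A C
  obtain ⟨s, hs⟩ := Module.projective_lifting_property π LinearMap.id hπ
  have h1 : (1 : C) ∈ m • (⊤ : Submodule A C) := by
    have e : (1 : C) = ∑ i, s 1 i • π (fun j => if i = j then 1 else 0) := by
      conv_lhs => rw [← LinearMap.id_apply (R := A) (1 : C), ← hs, LinearMap.comp_apply,
        pi_eq_sum_univ (s 1), map_sum]
      simp only [map_smul]
    rw [e]
    refine Submodule.sum_mem _ fun i _ => Submodule.smul_mem_smul (hIm ?_) Submodule.mem_top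
    exact ⟨(LinearMap.proj i).comp s, rfl⟩
  refine Module.FaithfullyFlat.submodule_ne_top (R := A) (M := C) hm ?_
  rw [Ideal.smul_top_eq_map]
  have : Ideal.map (algebraMap A C) m = ⊤ := by
    rw [Ideal.eq_top_iff_one]
    rw [Ideal.smul_top_eq_map] at h1
    exact h1
  rw [this]
  rfl

/-- Descent along a finite projective faithfully flat algebra. -/
theorem rel_of_lbase [Algebra.FiniteType R A] [Module.Finite A C] [Module.Projective A C]
    [Module.FaithfullyFlat A C] [DRing.HasLBaseChange (algebraMap A C)] (N : Dual.D A) (m : ℤ)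
    (h : DerCA.IsRelPseudoCoherent R C m ((DRing.LBaseChange (algebraMap A C)).obj N)) :
    DerCA.IsRelPseudoCoherent R A m N := by
  let P := (ringCover A).P.obj (DerivedCategory.Q.objPreimage N)
  haveI : QuasiIso ((ringCover A).ψ.app (DerivedCategory.Q.objPreimage N)) := (ringCover A).quasiIso_ψ _
  let eP : DerivedCategory.Q.obj P ≅ N :=
    asIso (DerivedCategory.Q.map ((ringCover A).ψ.app (DerivedCategory.Q.objPreimage N))) ≪≫
      DerivedCategory.Q.objObjPreimageIso N
  obtain ⟨eB⟩ := DRingLBase.nonempty_lbase_iso (algebraMap A C) (K := P) (kFlat_ringRes _)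
  obtain ⟨n, α, hα⟩ := DRingRelPC.exists_presentation R A
  have h' := (DRingRelPC.iff_via α hα _ m).1 ((DRingRelPC.finite_iff _ m).1 h)
  refine (DRingRelPC.iff_via α hα _ m).2 ?_
  obtain ⟨f, hf⟩ := exists_retraction (A := A) (C := C)
  let tR := (curriedTensor (ModuleCat.{u} A)).flip
  let r : Retract (ModuleCat.of A A) (ModuleCat.of A C) :=
    { i := ModuleCat.ofHom (Algebra.linearMap A C)
      r := ModuleCat.ofHom f
      retract := by
        ext
        simp [hf] }
  let rK : Retract ((tensC (ModuleCat.of A A)).obj P) ((tensC (ModuleCat.of A C)).obj P) :=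
    { i := (NatTrans.mapHomologicalComplex (tR.map r.i) (ComplexShape.up ℤ)).app P
      r := (NatTrans.mapHomologicalComplex (tR.map r.r) (ComplexShape.up ℤ)).app P
      retract := HomologicalComplex.hom_ext _ _ fun i => by
        show P.X i ◁ r.i ≫ P.X i ◁ r.r = _
        rw [← MonoidalCategory.whiskerLeft_comp, r.retract, MonoidalCategory.whiskerLeft_id]
        rfl }
  let e1 : (tensC (ModuleCat.of A A)).obj P ≅ P :=
    HomologicalComplex.Hom.isoOfComponents (fun i => ρ_ (P.X i))
      (fun i j _ => (MonoidalCategory.rightUnitor_naturality (P.d i j)).symm)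
  let η : ModuleCat.extendScalars (algebraMap A C) ⋙ ModuleCat.restrictScalars (algebraMap A C) ≅
      tensorRight (ModuleCat.of A C) :=
    extendRestrictIso (algebraMap A C) ≪≫ BraidedCategory.tensorLeftIsoTensorRight _ ≪≫
      (curriedTensor (ModuleCat.{u} A)).flip.mapIso (DRingTorDescent.resBIso C)
  let eT : (DRing.restrictD (algebraMap A C)).obj ((DRing.LBaseChange (algebraMap A C)).obj N) ≅
      DerivedCategory.Q.obj ((tensC (ModuleCat.of A C)).obj P) :=
    (DRing.restrictD _).mapIso ((DRing.LBaseChange (algebraMap A C)).mapIso eP.symm ≪≫ eB) ≪≫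
      (ModuleCat.restrictScalars (algebraMap A C)).mapDerivedCategoryFactors.app _ ≪≫
      DerivedCategory.Q.mapIso ((NatIso.mapHomologicalComplex η (ComplexShape.up ℤ)).app P)
  exact DRingPC.of_iso ((DRing.restrictD _).mapIso (DerivedCategory.Q.mapIso e1 ≪≫ eP))
    (pc_of_retract ((rK.map DerivedCategory.Q).map (DRing.restrictD _))
      (DRingPC.of_iso ((DRing.restrictD _).mapIso eT) h'))

end Groth.Agent.RelPCFppf
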