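import Groth.Agent.RelPCFppf.Ring
import Groth.Agent.RelPCFppf.Descend
import Groth.Agent.PerfGen7.RelLpull

/-!
# Relative pseudo-coherence in the flat topology
-/

set_option linter.style.haveILetI false
set_option backward.isDefEq.respectTransparency false
set_option backward.isDefEq.respectTransparency.types false

universe u

open CategoryTheory CategoryTheory.Limits AlgebraicGeometry

attribute [local instance] HasDerivedCategory.standard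

namespace Groth.Agent.RelPCFppf

open Groth.Agent.KFlatLib Groth.Agent.H9Misc Groth.Agent.PerfGen7

variable {X S : Scheme.{u}} {m : ℤ}

lemma isIso_toSpecΓ' {U : X.Opens} (hU : IsAffineOpen U) : IsIso U.toSpecΓ := by
  have h := hU.isoSpec.isIso_hom
  rwa [hU.isoSpec_hom] at h

/-- Relative pseudo-coherence on an affine pair, read off a module. -/
lemma immPC_iff_rel {U : X.Opens} (hU : IsAffineOpen U) {R : Type u} [CommRing R] [Algebra R Γ(X, U)]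
    [IsClosedImmersion U.toSpecΓ] {n : ℕ}
    (φ : MvPolynomial (Fin n) R →+* Γ(X, U)) (hφ : Function.Surjective φ)
    (hC : φ.comp MvPolynomial.C = algebraMap R Γ(X, U)) {K : DCoh.D X} (M : Dual.D Γ(X, U))
    (e : (DCoh.tildeD Γ(X, U)).obj M ≅ (pushD U.toSpecΓ).obj ((rho U.ι).obj K)) :
    ImmPC m K U φ ↔ DerCA.IsRelPseudoCoherent R Γ(X, U) m M := by
  let a : MvPolynomial (Fin n) R →ₐ[R] Γ(X, U) := { φ with commutes' := RingHom.congr_fun hC }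
  exact (immPC_tilde_iff hU φ hφ M e).trans (DRingRelPC.iff_via a hφ M m).symm

/-- Transfer of a module along a derived pullback between affine opens. -/
lemma nonempty_tilde_lpull {Y : Scheme.{u}} (g : Y ⟶ X) [DCoh.HasLpull g] {U : X.Opens} {U' : Y.Opens}
    (hU : IsAffineOpen U) (hU' : IsAffineOpen U') (h : U' ≤ g ⁻¹ᵁ U) [IsClosedImmersion U.toSpecΓ]
    [IsClosedImmersion U'.toSpecΓ] [DRing.HasLBaseChange (g.appLE U U' h).hom] {E : DCoh.D X}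
    (M : Dual.D Γ(X, U))
    (e : (DCoh.tildeD Γ(X, U)).obj M ≅ (pushD U.toSpecΓ).obj ((rho U.ι).obj E)) :
    Nonempty ((DCoh.tildeD Γ(Y, U')).obj ((DRing.LBaseChange (g.appLE U U' h).hom).obj M) ≅
      (pushD U'.toSpecΓ).obj ((rho U'.ι).obj ((DCoh.Lpull g).obj E))) := by
  haveI := isIso_toSpecΓ' hU
  haveI := isIso_toSpecΓ' hU'
  haveI := hasLpull (Spec.map (g.appLE U U' h))
  haveI : DCoh.HasLpull (Spec.map (CommRingCat.ofHom (g.appLE U U' h).hom)) := hasLpull _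
  obtain ⟨eT⟩ := nonempty_tildeD_lpull_iso (g.appLE U U' h).hom
  obtain ⟨eS⟩ := nonempty_lpull_square g (Spec.map (g.appLE U U' h)) hU.fromSpec hU'.fromSpec
    (hU.SpecMap_appLE_fromSpec g hU' h).symm E
  exact ⟨eT.app M ≪≫ (DCoh.Lpull (Spec.map (g.appLE U U' h))).mapIso (e ≪≫ pushToSpecIso hU E) ≪≫
    eS.symm ≪≫ (pushToSpecIso hU' _).symm⟩

/-- Pullback along a morphism between flat schemes of finite presentation over `X`. -/
theorem rel_lpull_over {X' X'' : Scheme.{u}} (p : X ⟶ S) [LocallyOfFiniteType p] (a : X' ⟶ X) (c : X'' ⟶ X)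
    (r : X'' ⟶ X') (w : r ≫ a = c) [Flat a] [LocallyOfFinitePresentation a] [Flat c]
    [LocallyOfFinitePresentation c] [DCoh.HasLpull r] {E : DCoh.D X'} (hE : DCoh.IsQCohD E)
    (h : DerSch.IsPseudoCoherentRel (a ≫ p) m E) :
    DerSch.IsPseudoCoherentRel (c ≫ p) m ((DCoh.Lpull r).obj E) := by
  subst w
  refine isPseudoCoherentRel_iff.2 fun x => ?_
  obtain ⟨V, hV, hxV, -⟩ :=
    exists_isAffineOpen_mem_and_subset (x := p (a (r x))) (U := (⊤ : S.Opens)) trivial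
  obtain ⟨U₀, hU₀, hxU₀, hU₀V⟩ := exists_isAffineOpen_mem_and_subset (x := a (r x)) (U := p ⁻¹ᵁ V) hxV
  obtain ⟨U, hU, hxU, hUU₀⟩ := exists_isAffineOpen_mem_and_subset (x := r x) (U := a ⁻¹ᵁ U₀) hxU₀
  obtain ⟨U', hU', hxU', hU'U⟩ := exists_isAffineOpen_mem_and_subset (x := x) (U := r ⁻¹ᵁ U) hxU
  have hUV : U ≤ (a ≫ p) ⁻¹ᵁ V := fun y hy => hU₀V (hUU₀ hy)
  have hU'U₀ : U' ≤ (r ≫ a) ⁻¹ᵁ U₀ := fun y hy => hUU₀ (hU'U hy)
  have hU'V : U' ≤ ((r ≫ a) ≫ p) ⁻¹ᵁ V := fun y hy => hU₀V (hU'U₀ hy)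
  obtain ⟨n, φ, hφ⟩ := exists_chart_of_affine (f := a ≫ p) hU hV hUV
  obtain ⟨k, ψ, hψ⟩ := exists_chart_of_affine (f := (r ≫ a) ≫ p) hU' hV hU'V
  letI : Algebra Γ(S, V) Γ(X', U) := ((a ≫ p).appLE V U hUV).hom.toAlgebra
  letI : Algebra Γ(S, V) Γ(X'', U') := (((r ≫ a) ≫ p).appLE V U' hU'V).hom.toAlgebra
  letI : Algebra Γ(X, U₀) Γ(X', U) := (a.appLE U₀ U hUU₀).hom.toAlgebra
  letI : Algebra Γ(X, U₀) Γ(X'', U') := ((r ≫ a).appLE U₀ U' hU'U₀).hom.toAlgebra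
  letI : Algebra Γ(X', U) Γ(X'', U') := (r.appLE U U' hU'U).hom.toAlgebra
  haveI : IsScalarTower Γ(S, V) Γ(X', U) Γ(X'', U') := IsScalarTower.of_algebraMap_eq' (by
    simp only [RingHom.algebraMap_toAlgebra, ← CommRingCat.hom_comp, Scheme.Hom.appLE_comp_appLE, Category.assoc])
  haveI : IsScalarTower Γ(X, U₀) Γ(X', U) Γ(X'', U') := IsScalarTower.of_algebraMap_eq' (by
    simp only [RingHom.algebraMap_toAlgebra, ← CommRingCat.hom_comp, Scheme.Hom.appLE_comp_appLE])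
  haveI : Module.Flat Γ(X, U₀) Γ(X', U) :=
    HasRingHomProperty.appLE @Flat a ‹_› ⟨U₀, hU₀⟩ ⟨U, hU⟩ hUU₀
  haveI : Algebra.FinitePresentation Γ(X, U₀) Γ(X', U) :=
    HasRingHomProperty.appLE @LocallyOfFinitePresentation a ‹_› ⟨U₀, hU₀⟩ ⟨U, hU⟩ hUU₀
  haveI : Module.Flat Γ(X, U₀) Γ(X'', U') :=
    HasRingHomProperty.appLE @Flat (r ≫ a) ‹_› ⟨U₀, hU₀⟩ ⟨U', hU'⟩ hU'U₀
  haveI : Algebra.FinitePresentation Γ(X, U₀) Γ(X'', U') :=
    HasRingHomProperty.appLE @LocallyOfFinitePresentation (r ≫ a) ‹_› ⟨U₀, hU₀⟩ ⟨U', hU'⟩ hU'U₀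
  haveI := isClosedImmersion_toSpecΓ hU
  haveI := isClosedImmersion_toSpecΓ hU'
  haveI : DRing.HasLBaseChange (r.appLE U U' hU'U).hom := DRingLBase.hasLBaseChange _
  obtain ⟨M, ⟨e⟩⟩ := exists_tilde_rep hU hE
  obtain ⟨e'⟩ := nonempty_tilde_lpull r hU hU' hU'U M e
  have hM := (immPC_iff_rel hU φ hφ.1 hφ.2 M e).1 ((chartPC_iff hU φ hφ.1).1 (chartPC_of_rel h hU hV hUV φ hφ))
  exact ⟨U', V, hxU', hU', hV, hU'V, k, ψ, hψ,
    (immPC_iff_rel hU' ψ hψ.1 hψ.2 _ e').2 (rel_lbase Γ(X, U₀) M m hM)⟩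

/-- Descent along a morphism which is finite locally free and surjective over an affine open. -/
theorem goodPair_of_lpull {Y : Scheme.{u}} (p : X ⟶ S) [LocallyOfFiniteType p] (g : Y ⟶ X) [Flat g]
    [LocallyOfFinitePresentation g] [DCoh.HasLpull g] {E : DCoh.D X} (hE : DCoh.IsQCohD E)
    (h : DerSch.IsPseudoCoherentRel (g ≫ p) m ((DCoh.Lpull g).obj E)) {U : X.Opens} {V : S.Opens}
    (hU : IsAffineOpen U) (hV : IsAffineOpen V) (hUV : U ≤ p ⁻¹ᵁ V) (hU' : IsAffineOpen (g ⁻¹ᵁ U))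
    (hfin : (g.appLE U (g ⁻¹ᵁ U) le_rfl).hom.Finite) (hsurj : ∀ u ∈ U, ∃ y, g y = u) :
    GoodPair p m E U V := by
  have hU'V : g ⁻¹ᵁ U ≤ (g ≫ p) ⁻¹ᵁ V := fun y hy => hUV hy
  obtain ⟨n, φ, hφ⟩ := exists_chart_of_affine (f := p) hU hV hUV
  obtain ⟨k, ψ, hψ⟩ := exists_chart_of_affine (f := g ≫ p) hU' hV hU'V
  letI : Algebra Γ(S, V) Γ(X, U) := (p.appLE V U hUV).hom.toAlgebra
  letI : Algebra Γ(S, V) Γ(Y, g ⁻¹ᵁ U) := ((g ≫ p).appLE V (g ⁻¹ᵁ U) hU'V).hom.toAlgebra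
  letI : Algebra Γ(X, U) Γ(Y, g ⁻¹ᵁ U) := (g.appLE U (g ⁻¹ᵁ U) le_rfl).hom.toAlgebra
  haveI : IsScalarTower Γ(S, V) Γ(X, U) Γ(Y, g ⁻¹ᵁ U) := IsScalarTower.of_algebraMap_eq' (by
    simp only [RingHom.algebraMap_toAlgebra, ← CommRingCat.hom_comp, Scheme.Hom.appLE_comp_appLE])
  haveI : Algebra.FiniteType Γ(S, V) Γ(X, U) := LocallyOfFiniteType.finiteType_appLE p hV hU hUV
  haveI : Module.Finite Γ(X, U) Γ(Y, g ⁻¹ᵁ U) := hfin
  haveI : Module.Flat Γ(X, U) Γ(Y, g ⁻¹ᵁ U) :=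
    HasRingHomProperty.appLE @Flat g ‹_› ⟨U, hU⟩ ⟨g ⁻¹ᵁ U, hU'⟩ le_rfl
  haveI : Algebra.FinitePresentation Γ(X, U) Γ(Y, g ⁻¹ᵁ U) :=
    HasRingHomProperty.appLE @LocallyOfFinitePresentation g ‹_› ⟨U, hU⟩ ⟨g ⁻¹ᵁ U, hU'⟩ le_rfl
  haveI : Module.FinitePresentation Γ(X, U) Γ(Y, g ⁻¹ᵁ U) :=
    Module.FinitePresentation.of_finite_of_finitePresentation _ _
  haveI : Module.Projective Γ(X, U) Γ(Y, g ⁻¹ᵁ U) := Module.Flat.projective_of_finitePresentation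
  haveI : Module.FaithfullyFlat Γ(X, U) Γ(Y, g ⁻¹ᵁ U) := by
    refine Module.FaithfullyFlat.of_comap_surjective fun q => ?_
    obtain ⟨y, hy⟩ := hsurj (hU.fromSpec q) (hU.range_fromSpec.le ⟨q, rfl⟩)
    have hyU : y ∈ g ⁻¹ᵁ U := by
      show g y ∈ U
      rw [hy]
      exact hU.range_fromSpec.le ⟨q, rfl⟩
    obtain ⟨q', hq'⟩ := hU'.range_fromSpec.ge hyU
    refine ⟨q', hU.fromSpec.isOpenEmbedding.injective ?_⟩
    change hU.fromSpec (Spec.map (g.appLE U (g ⁻¹ᵁ U) le_rfl) q') = _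
    rw [← Scheme.Hom.comp_apply, hU.SpecMap_appLE_fromSpec g hU' le_rfl, Scheme.Hom.comp_apply, hq', hy]
  haveI := isClosedImmersion_toSpecΓ hU
  haveI := isClosedImmersion_toSpecΓ hU'
  haveI : DRing.HasLBaseChange (g.appLE U (g ⁻¹ᵁ U) le_rfl).hom := DRingLBase.hasLBaseChange _
  obtain ⟨M, ⟨e⟩⟩ := exists_tilde_rep hU hE
  obtain ⟨e'⟩ := nonempty_tilde_lpull g hU hU' le_rfl M e
  have hM := (immPC_iff_rel hU' ψ hψ.1 hψ.2 _ e').1 ((chartPC_iff hU' ψ hψ.1).1 (chartPC_of_rel h hU' hV hU'V ψ hψ))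
  exact ⟨hU, hV, hUV, n, φ, hφ, (immPC_iff_rel hU φ hφ.1 hφ.2 M e).2 (rel_of_lbase M m hM)⟩

/-- Descent along a finite locally free surjection over an open. -/
theorem goodPair_of_finLocFree {W : Scheme.{u}} (p : X ⟶ S) [LocallyOfFiniteType p] {U₀ : X.Opens}
    (π : W ⟶ U₀.toScheme) [IsFinite π] [Flat π] [LocallyOfFinitePresentation π] [Surjective π]
    [DCoh.HasLpull (π ≫ U₀.ι)] {E : DCoh.D X} (hE : DCoh.IsQCohD E)
    (h : DerSch.IsPseudoCoherentRel ((π ≫ U₀.ι) ≫ p) m ((DCoh.Lpull (π ≫ U₀.ι)).obj E)) (x : X) (hx : x ∈ U₀) :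
    ∃ (U : X.Opens) (V : S.Opens), x ∈ U ∧ GoodPair p m E U V := by
  obtain ⟨V, hV, hxV, -⟩ := exists_isAffineOpen_mem_and_subset (x := p x) (U := (⊤ : S.Opens)) trivial
  obtain ⟨U, hU, hxU, hUle⟩ := exists_isAffineOpen_mem_and_subset (x := x) (U := U₀ ⊓ p ⁻¹ᵁ V) ⟨hx, hxV⟩
  have hU₁ : IsAffineOpen (U₀.ι ⁻¹ᵁ U) := by
    rw [← U₀.ι.isAffineOpen_iff_of_isOpenImmersion, Scheme.Hom.image_preimage_eq_opensRange_inf,
      Scheme.Opens.opensRange_ι, inf_eq_right.2 fun y hy => (hUle hy).1]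
    exact hU
  refine ⟨U, V, hxU, goodPair_of_lpull p (π ≫ U₀.ι) hE h hU hV (fun y hy => (hUle hy).2) (hU₁.preimage π) ?_ ?_⟩
  · rw [← Scheme.Hom.app_eq_appLE, Scheme.Hom.comp_app, CommRingCat.hom_comp]
    refine (π.finite_app _ hU₁).comp (RingHom.Finite.of_surjective _ ?_)
    haveI : IsIso (U₀.ι.app U) := U₀.ι.isIso_app U fun y hy => by
      rw [Scheme.Opens.opensRange_ι]
      exact (hUle hy).1
    exact (ConcreteCategory.bijective_of_isIso (U₀.ι.app U)).2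
  · intro u hu
    obtain ⟨y, hy⟩ := π.surjective ⟨u, (hUle hu).1⟩
    exact ⟨y, by rw [Scheme.Hom.comp_apply, hy]; rfl⟩

end Groth.Agent.RelPCFppf
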