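import Groth.Agent.H9Misc.DRingRelPC2
import Groth.Agent.H9Misc.DRingComplTensor
import Groth.Agent.H9Misc.DRingTorDescent
import Groth.Agent.PerfGen7.RelLpullRing
import Groth.Agent.FlatSyz5.PC

/-!
# Relative pseudo-coherence after a flat base change of finite presentation
-/

set_option linter.style.haveILetI false
set_option backward.isDefEq.respectTransparency false
set_option backward.isDefEq.respectTransparency.types false

universe u

open CategoryTheory CategoryTheory.Limits MonoidalCategory

attribute [local instance] HasDerivedCategory.standard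

namespace Groth.Agent.RelPCFppf

open Groth.Agent.KFlatLib Groth.Agent.H9Misc Groth.Agent.H9Misc.DRingLTensor

section Induction

variable {S Q : Type u} [CommRing S] [CommRing Q] (χ : Q →+* S) (CS : DRing.Cx S)

/-- The test object of a module. -/
noncomputable abbrev test (K : ModuleCat.{u} S) : Dual.D Q :=
  (DRing.restrictD χ).obj (DerivedCategory.Q.obj ((tensC K).obj CS))

variable {χ CS}

/-- Short exact sequences give triangles. -/
lemma exists_triangle (hf : DRing.TermwiseFlat CS) (T : ShortComplex (ModuleCat.{u} S)) (hT : T.ShortExact) :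
    ∃ U : Pretriangulated.Triangle (Dual.D Q), U ∈ Pretriangulated.distinguishedTriangles ∧ U.obj₁ = test χ CS T.X₁ ∧
      U.obj₂ = test χ CS T.X₂ ∧ U.obj₃ = test χ CS T.X₃ := by
  let c := ComplexShape.up ℤ
  let tR := (curriedTensor (ModuleCat.{u} S)).flip
  let η₁ : tensC T.X₁ ⟶ tensC T.X₂ := NatTrans.mapHomologicalComplex (tR.map T.f) c
  let η₂ : tensC T.X₂ ⟶ tensC T.X₃ := NatTrans.mapHomologicalComplex (tR.map T.g) c
  let σ : ShortComplex (DRing.Cx S) := ShortComplex.mk (η₁.app CS) (η₂.app CS)
    (HomologicalComplex.hom_ext _ _ fun i => by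
      show CS.X i ◁ T.f ≫ CS.X i ◁ T.g = 0
      rw [← MonoidalCategory.whiskerLeft_comp, T.zero, MonoidalPreadditive.whiskerLeft_zero])
  have hσ : σ.ShortExact := HomologicalComplex.shortExact_of_degreewise_shortExact σ fun i => by
    show (T.map (tensorLeft (CS.X i))).ShortExact
    haveI : Module.Flat S (CS.X i) := hf i
    refine { exact := ?_, mono_f := ?_, epi_g := ?_ }
    · exact (ShortComplex.ShortExact.moduleCat_exact_iff_function_exact _).2
        (Module.Flat.lTensor_exact (M := CS.X i)
          ((ShortComplex.ShortExact.moduleCat_exact_iff_function_exact _).1 hT.exact))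
    · exact (ModuleCat.mono_iff_injective _).2 (Module.Flat.lTensor_preserves_injective_linearMap T.f.hom
        ((ModuleCat.mono_iff_injective _).1 hT.mono_f))
    · exact (ModuleCat.epi_iff_surjective _).2 (LinearMap.lTensor_surjective _
        ((ModuleCat.epi_iff_surjective _).1 hT.epi_g))
  exact ⟨(DRing.restrictD χ).mapTriangle.obj (DerivedCategory.triangleOfSES hσ),
    (DRing.restrictD χ).map_distinguished _ (DerivedCategory.triangleOfSES_distinguished hσ), rfl, rfl, rfl⟩

lemma pc_of_vanishing {b m : ℤ} (hb : DRing.VanishesAbove CS b) (hm : b < m) (K : ModuleCat.{u} S) :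
    DRing.IsPseudoCoherent Q m (test χ CS K) := by
  refine DRingPC.of_vanish _ fun i hi => DRingRestrict.isZero_H_restrict χ ?_
  refine IsZero.of_iso ?_ ((DerivedCategory.homologyFunctorFactors (ModuleCat.{u} S) i).app _)
  exact ShortComplex.isZero_homology_of_isZero_X₂ _ ((tensorRight K).map_isZero (hb i (by omega)))

lemma pc_free (hf : DRing.TermwiseFlat CS) {m : ℤ}
    (h : DRing.IsPseudoCoherent Q m ((DRing.restrictD χ).obj (DerivedCategory.Q.obj CS))) :
    ∀ n : ℕ, DRing.IsPseudoCoherent Q m (test χ CS (ModuleCat.of S (Fin n → S))) := by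
  intro n
  induction n with
  | zero =>
    refine DRingPC.of_vanish _ fun i _ => DRingRestrict.isZero_H_restrict χ ?_
    refine IsZero.of_iso ?_ ((DerivedCategory.homologyFunctorFactors (ModuleCat.{u} S) i).app _)
    exact ShortComplex.isZero_homology_of_isZero_X₂ _
      ((tensorLeft (CS.X i)).map_isZero (ModuleCat.isZero_of_subsingleton _))
  | succ n ih =>
    let f : (Fin n → S) →ₗ[S] (Fin (n + 1) → S) :=
      { toFun := fun v => Fin.cons 0 v
        map_add' := fun v w => by ext i; cases i using Fin.cases <;> simp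
        map_smul' := fun r v => by ext i; cases i using Fin.cases <;> simp }
    let g : (Fin (n + 1) → S) →ₗ[S] S := LinearMap.proj 0
    let T : ShortComplex (ModuleCat.{u} S) := ShortComplex.mk (ModuleCat.ofHom f) (ModuleCat.ofHom g)
      (by ext x; simp [f, g])
    have hT : T.ShortExact :=
      { exact := (ShortComplex.moduleCat_exact_iff T).2 fun x hx => ⟨fun i => x i.succ, funext fun i => by
          cases i using Fin.cases with
          | zero => exact hx.symm
          | succ j => simp [T, f]⟩
        mono_f := (ModuleCat.mono_iff_injective _).2 fun v w hvw => funext fun i => by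
          simpa [T, f] using congrFun hvw i.succ
        epi_g := (ModuleCat.epi_iff_surjective _).2 fun s => ⟨fun _ => s, rfl⟩ }
    obtain ⟨U, hU, h1, h2, h3⟩ := exists_triangle (χ := χ) hf T hT
    let e : (tensC (ModuleCat.of S S)).obj CS ≅ CS :=
      HomologicalComplex.Hom.isoOfComponents (fun i => ρ_ (CS.X i))
        (fun i j _ => (MonoidalCategory.rightUnitor_naturality (CS.d i j)).symm)
    have hS : DRing.IsPseudoCoherent Q m (test χ CS (ModuleCat.of S S)) :=
      DRingPC.of_iso ((DRing.restrictD χ).mapIso (DerivedCategory.Q.mapIso e)).symm h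
    have := (Groth.Agent.S2067.result U hU m).2.1 (h1 ▸ ih) (h3 ▸ hS)
    rw [h2] at this
    exact this

/-- The induction on the depth. -/
theorem pc_test {A : Type u} [CommRing A] [Algebra A S] [Algebra.FinitePresentation A S] [Module.Flat A S]
    (hf : DRing.TermwiseFlat CS) {b m : ℤ} (hb : DRing.VanishesAbove CS b)
    (h : DRing.IsPseudoCoherent Q m ((DRing.restrictD χ).obj (DerivedCategory.Q.obj CS))) :
    ∀ (k : ℕ) (m' : ℤ), b < m' + k → m ≤ m' → ∀ (K : Type u) [AddCommGroup K] [Module S K] [Module A K]
      [IsScalarTower A S K] [Module.FinitePresentation S K] [Module.Flat A K],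
      DRing.IsPseudoCoherent Q m' (test χ CS (ModuleCat.of S K)) := by
  intro k
  induction k with
  | zero => exact fun m' hk _ K _ _ _ _ _ _ => pc_of_vanishing hb (by simpa using hk) _
  | succ k ih =>
    intro m' hk hm K _ _ _ _ _ _
    obtain ⟨n, π, hπ⟩ := Module.Finite.exists_fin' S K
    let T : ShortComplex (ModuleCat.{u} S) := ShortComplex.mk (ModuleCat.ofHom (LinearMap.ker π).subtype)
      (ModuleCat.ofHom π) (by ext x; exact x.2)
    have hT : T.ShortExact :=
      { exact := (ShortComplex.moduleCat_exact_iff T).2 fun x hx => ⟨⟨x, hx⟩, rfl⟩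
        mono_f := (ModuleCat.mono_iff_injective _).2 Subtype.val_injective
        epi_g := (ModuleCat.epi_iff_surjective _).2 hπ }
    haveI := FlatSyz5.fp_ker (A := A) π hπ
    haveI : Module.Flat A (LinearMap.ker π) := FlatSyz5.flat_ker A (π.restrictScalars A) hπ
    obtain ⟨U, hU, h1, h2, h3⟩ := exists_triangle (χ := χ) hf T hT
    have hk' := ih (m' + 1) (by push_cast at hk; omega) (by omega) (LinearMap.ker π)
    have := (Groth.Agent.S2067.result U hU m').1 (h1 ▸ hk') (h2 ▸ DRingPC.mono hm (pc_free hf h n))
    rw [h3] at this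
    exact this

end Induction

theorem flat_extendScalars {A S : Type u} [CommRing A] [CommRing S] (ι : A →+* S) (M : ModuleCat.{u} A)
    [Module.Flat A M] : Module.Flat S ((ModuleCat.extendScalars.{u, u, u} ι).obj M) := by
  letI := ι.toAlgebra
  exact inferInstanceAs (Module.Flat S (TensorProduct A S M))

section Main

open MvPolynomial

variable {R A B : Type u} [CommRing R] [CommRing A] [CommRing B] [Algebra R A] [Algebra A B] [Algebra R B]
  [IsScalarTower R A B]

/-- Base change along a map of flat algebras of finite presentation over some ring `A₀`. -/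
theorem rel_lbase (A₀ : Type u) [CommRing A₀] [Algebra A₀ A] [Algebra A₀ B] [IsScalarTower A₀ A B]
    [Algebra.FinitePresentation A₀ A] [Module.Flat A₀ A] [Algebra.FinitePresentation A₀ B] [Module.Flat A₀ B]
    [DRing.HasLBaseChange (algebraMap A B)]
    (N : Dual.D A) (m : ℤ) (h : DerCA.IsRelPseudoCoherent R A m N) :
    DerCA.IsRelPseudoCoherent R B m ((DRing.LBaseChange (algebraMap A B)).obj N) := by
  obtain ⟨n, α, hα, hN⟩ := h
  haveI : Algebra.FinitePresentation A B :=
    Algebra.FinitePresentation.of_restrict_scalars_finitePresentation A₀ A B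
  let a : MvPolynomial (Fin n) R →+* A := α
  obtain ⟨l, δ, hδ, hker⟩ := Algebra.FinitePresentation.out (R := A) (A := B)
  obtain ⟨E, a₀, b₀, φ, hz, -, hi, -⟩ := id hN
  obtain ⟨b, hb₁, hb₂⟩ : ∃ b, b₀ ≤ b ∧ m ≤ b := ⟨max b₀ m, le_max_left _ _, le_max_right _ _⟩
  haveI : N.IsLE b := (DerivedCategory.isLE_iff N b).2 fun i hi' => by
    haveI := hi i (by omega)
    have h0 : IsZero ((DerivedCategory.homologyFunctor _ i).obj (DRing.toD E)) :=
      IsZero.of_iso (ShortComplex.isZero_homology_of_isZero_X₂ _ (hz i (Or.inr (by omega))))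
        ((DerivedCategory.homologyFunctorFactors _ i).app E)
    have h1 := (h0.of_iso (asIso ((DerivedCategory.homologyFunctor _ i).map φ)).symm).of_iso
      ((mapDCHomologyIso (ModuleCat.restrictScalars a) i).app N).symm
    haveI := ModuleCat.subsingleton_of_isZero h1
    exact @ModuleCat.isZero_of_subsingleton A _ _ (show Subsingleton _ from this)
  obtain ⟨C₀, hC₀, ⟨eC₀⟩⟩ := DerivedCategory.exists_iso_Q_obj_of_isLE N b
  obtain ⟨C, θ, hCb, hC, -, hθ⟩ := TriCat.exists_quasiIso_left_resolution
    (fun X : ModuleCat.{u} A => Module.Projective A X)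
    ⟨ModuleCat.of A PUnit.{u + 1}, ModuleCat.isZero_of_subsingleton _, inferInstance⟩
    (fun X => ⟨ModuleCat.of A (X →₀ A), ModuleCat.ofHom (Finsupp.linearCombination A id),
      inferInstance, (ModuleCat.epi_iff_surjective _).2
        (Finsupp.linearCombination_id_surjective A X)⟩) C₀ b
  let eC : DerivedCategory.Q.obj C ≅ N := asIso (DerivedCategory.Q.map θ) ≪≫ eC₀.symm
  have hCv : DRing.VanishesAbove C b := fun i hi => C.isZero_of_isStrictlyLE b i hi
  have hKF : IsKF C := DRingComplTensor.isKF_of_projective hCv hC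
  let S := MvPolynomial (Fin l) A
  let Q := MvPolynomial (Fin l) (MvPolynomial (Fin n) R)
  let χ : Q →+* S := MvPolynomial.map a
  let ι : A →+* S := algebraMap A S
  let CS : DRing.Cx S := (extC' ι).obj C
  have hfCS : DRing.TermwiseFlat CS := fun i => by
    haveI := hC i
    haveI : Module.Flat A (C.X i) := Module.Flat.of_projective
    exact flat_extendScalars ι (C.X i)
  have hbCS : DRing.VanishesAbove CS b := fun i hi => (ModuleCat.extendScalars ι).map_isZero (hCv i hi)
  haveI := DRingLBase.hasLBaseChange ι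
  have hpo : IsPushout (CommRingCat.ofHom (MvPolynomial.C (R := MvPolynomial (Fin n) R) (σ := Fin l)))
      (CommRingCat.ofHom a) (CommRingCat.ofHom χ) (CommRingCat.ofHom ι) := by
    letI := a.toAlgebra
    letI : Algebra Q S := MvPolynomial.algebraMvPolynomial
    haveI : IsScalarTower (MvPolynomial (Fin n) R) Q S :=
      .of_algebraMap_eq fun r => (MvPolynomial.map_C _ r).symm
    exact CommRingCat.isPushout_iff_isPushout.2
      (inferInstance : Algebra.IsPushout (MvPolynomial (Fin n) R) Q A S)
  have hS : DRing.IsPseudoCoherent Q m ((DRing.restrictD χ).obj (DerivedCategory.Q.obj CS)) := by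
    obtain ⟨eL⟩ := DRingLBase.nonempty_lbase_iso ι hKF
    refine DRingPC.of_iso ((DRing.restrictD χ).mapIso ((DRing.LBaseChange ι).mapIso eC.symm ≪≫ eL)) ?_
    exact (PerfGen7.pc_restrict_lbase hpo N m).1
      ((RingHom.flat_algebraMap_iff (R := MvPolynomial (Fin n) R) (S := Q)).2 inferInstance) hN
  letI : Algebra S B := δ.toRingHom.toAlgebra
  haveI : IsScalarTower A S B := IsScalarTower.of_algebraMap_eq fun r => (δ.commutes r).symm
  haveI : Module.FinitePresentation S B :=
    Module.finitePresentation_of_surjective (Algebra.linearMap S B) hδ hker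
  haveI : IsScalarTower A₀ S B := IsScalarTower.of_algebraMap_eq fun r =>
    (IsScalarTower.algebraMap_apply A₀ A B r).trans (δ.commutes _).symm
  haveI : Algebra.FinitePresentation A₀ S := Algebra.FinitePresentation.trans A₀ A S
  haveI : Module.Flat A₀ S := Module.Flat.trans A₀ A S
  have hB : DRing.IsPseudoCoherent Q m (test χ CS (ModuleCat.of S B)) :=
    pc_test (A := A₀) hfCS hbCS hS (b + 1 - m).toNat m (by omega) le_rfl B
  let d : S →+* B := δ.toRingHom
  have hd : d.comp ι = algebraMap A B := δ.comp_algebraMap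
  let η : ModuleCat.extendScalars (algebraMap A B) ⋙ ModuleCat.restrictScalars d ≅
      ModuleCat.extendScalars ι ⋙ tensorRight (DRingTorDescent.resB d) :=
    Functor.isoWhiskerRight (eqToIso (congrArg ModuleCat.extendScalars.{u, u, u} hd.symm) ≪≫
      ModuleCat.extendScalarsComp ι d) _ ≪≫ Functor.associator _ _ _ ≪≫
      Functor.isoWhiskerLeft _ (extendRestrictIso d ≪≫ BraidedCategory.tensorLeftIsoTensorRight _)
  obtain ⟨eB⟩ := DRingLBase.nonempty_lbase_iso (algebraMap A B) hKF
  let tB : DRingTorDescent.resB d ≅ ModuleCat.of S B := DRingTorDescent.resBIso B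
  let eT : (DRing.restrictD d).obj ((DRing.LBaseChange (algebraMap A B)).obj N) ≅
      DerivedCategory.Q.obj ((tensC (ModuleCat.of S B)).obj CS) :=
    (DRing.restrictD d).mapIso ((DRing.LBaseChange (algebraMap A B)).mapIso eC.symm ≪≫ eB) ≪≫
      (ModuleCat.restrictScalars d).mapDerivedCategoryFactors.app _ ≪≫
      DerivedCategory.Q.mapIso ((NatIso.mapHomologicalComplex η (ComplexShape.up ℤ)).app C ≪≫
        (NatIso.mapHomologicalComplex ((curriedTensor (ModuleCat.{u} S)).flip.mapIso tB) (ComplexShape.up ℤ)).app CS)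
  have hB' : DRing.IsPseudoCoherent Q m ((DRing.restrictD (d.comp χ)).obj ((DRing.LBaseChange (algebraMap A B)).obj N)) :=
    (DRingRelPC.pc_iff_twice χ d _ m).1 (DRingPC.of_iso ((DRing.restrictD χ).mapIso eT).symm hB)
  let γ : MvPolynomial (Fin n) R →ₐ[R] B := (IsScalarTower.toAlgHom R A B).comp α
  obtain ⟨β, σ, hσ, hβ⟩ := DRingRelPC.exists_stack γ fun i => δ (X i)
  have hχ : eval₂Hom (γ : MvPolynomial (Fin n) R →+* B) (fun i => δ (X i)) = d.comp χ :=
    MvPolynomial.ringHom_ext (fun r => by
      simp only [RingHom.comp_apply, χ, MvPolynomial.map_C, MvPolynomial.eval₂Hom_C]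
      exact (RingHom.congr_fun hd (a r)).symm.trans (congrArg d (MvPolynomial.map_C a r).symm)) fun i => by
      rw [RingHom.comp_apply, MvPolynomial.eval₂Hom_X']
      exact congrArg δ (MvPolynomial.map_X a i).symm
  rw [hχ] at hβ
  refine ⟨l + n, β, fun x => ?_, ?_⟩
  · obtain ⟨y, rfl⟩ := hδ x
    obtain ⟨z, rfl⟩ := MvPolynomial.map_surjective a hα y
    obtain ⟨w, rfl⟩ := hσ.2 z
    exact ⟨w, (RingHom.congr_fun hβ w).symm⟩
  · exact (DRingRelPC.pc_iff_comp (DRingRelPC.PCHom.of_bijective hσ) _ _ hβ _ m).1 hB'

end Main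

end Groth.Agent.RelPCFppf
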